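import Mathlib

/-! Finitely many finite projective modules are free on a common basic neighbourhood. -/

set_option linter.style.haveILetI false

universe u

open TensorProduct

namespace Groth.Agent.H1DAway

variable {R : Type u} [CommRing R]

lemma free_away_of_dvd (M : Type u) [AddCommGroup M] [Module R M] {g h : R} (hgh : g ∣ h)
    [Module.Free (Localization.Away g) (Localization.Away g ⊗[R] M)] :
    Module.Free (Localization.Away h) (Localization.Away h ⊗[R] M) := by
  have hu : IsUnit (algebraMap R (Localization.Away h) g) :=
    isUnit_of_dvd_unit (map_dvd _ hgh) (IsLocalization.Away.algebraMap_isUnit h)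
  let φ : Localization.Away g →+* Localization.Away h := IsLocalization.Away.lift g hu
  letI : Algebra (Localization.Away g) (Localization.Away h) := φ.toAlgebra
  haveI : IsScalarTower R (Localization.Away g) (Localization.Away h) :=
    IsScalarTower.of_algebraMap_eq fun r => (IsLocalization.Away.lift_eq g hu r).symm
  exact Module.Free.of_equiv (AlgebraTensorModule.cancelBaseChange R (Localization.Away g)
    (Localization.Away h) (Localization.Away h) M)

lemma exists_free_away (p : Ideal R) [p.IsPrime] (M : Type u) [AddCommGroup M] [Module R M]
    [Module.Finite R M] [Module.Projective R M] :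
    ∃ f : R, f ∉ p ∧ Module.Free (Localization.Away f) (Localization.Away f ⊗[R] M) := by
  haveI := Module.finitePresentation_of_projective R M
  haveI : Module.Free (Localization.AtPrime p) (LocalizedModule p.primeCompl M) :=
    Module.free_of_flat_of_isLocalRing
  obtain ⟨f, hf, hfree, -⟩ := Module.FinitePresentation.exists_free_localizedModule_powers
    p.primeCompl (LocalizedModule.mkLinearMap p.primeCompl M) (Localization.AtPrime p)
  haveI := hfree
  exact ⟨f, hf, Module.Free.of_equiv (LocalizedModule.equivTensorProduct (Submonoid.powers f) M)⟩

lemma exists_free_away_finset (p : Ideal R) [p.IsPrime] {ι : Type*} (s : Finset ι)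
    (M : ι → Type u) [∀ i, AddCommGroup (M i)] [∀ i, Module R (M i)]
    [∀ i, Module.Finite R (M i)] [∀ i, Module.Projective R (M i)] :
    ∃ f : R, f ∉ p ∧
      ∀ i ∈ s, Module.Free (Localization.Away f) (Localization.Away f ⊗[R] M i) := by
  classical
  choose g hg hfree using fun i => exists_free_away p (M i)
  refine ⟨∏ i ∈ s, g i, fun h => ?_, fun i hi => ?_⟩
  · obtain ⟨i, -, hi⟩ := (Ideal.IsPrime.prod_mem_iff (p := p)).1 h
    exact hg i hi
  · haveI := hfree i
    exact free_away_of_dvd (M i) (Finset.dvd_prod_of_mem g hi)

end Groth.Agent.H1DAway
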