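import Mathlib
import Groth.Agent.H1DAway.Free
import Groth.Agent.H9Misc.DRingProjAmp

/-! Bounded complexes of finite projectives isomorphic in the derived category differ by
contractible summands. -/

set_option linter.style.haveILetI false
set_option backward.isDefEq.respectTransparency false
set_option backward.isDefEq.respectTransparency.types false

universe u

open CategoryTheory CategoryTheory.Limits CochainComplex

attribute [local instance] HasDerivedCategory.standard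

namespace Groth.Agent.H1DAway

variable {R : Type u} [CommRing R]

/-- Bounded, with finite projective terms. -/
def Bfp (K : DRing.Cx R) : Prop :=
  (∃ a b : ℤ, DRing.VanishesOutside K a b) ∧ DRing.TermwiseFiniteProjective K

lemma bfp_of_retract {K L : DRing.Cx R} (s : K ⟶ L) (r : L ⟶ K) (h : s ≫ r = 𝟙 K) (hL : Bfp L) :
    Bfp K := by
  have hc : ∀ i, s.f i ≫ r.f i = 𝟙 (K.X i) := fun i => by
    rw [← HomologicalComplex.comp_f, h]; rfl
  have hl : ∀ i, (r.f i).hom ∘ₗ (s.f i).hom = LinearMap.id := fun i => by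
    rw [← ModuleCat.hom_comp, hc i]; rfl
  obtain ⟨⟨a, b, hv⟩, hp⟩ := hL
  refine ⟨⟨a, b, fun i hi => ?_⟩, fun i => ?_⟩
  · rw [IsZero.iff_id_eq_zero, ← hc i, (hv i hi).eq_of_tgt (s.f i) 0, zero_comp]
  · obtain ⟨hf, hq⟩ := hp i
    exact ⟨Module.Finite.of_surjective (r.f i).hom fun x => ⟨_, LinearMap.congr_fun (hl i) x⟩,
      Module.Projective.of_split (s.f i).hom (r.f i).hom (hl i)⟩

lemma finite_projective_of_id {A B : ModuleCat.{u} R} {P : ModuleCat.{u} R}
    (p : P ⟶ A) (i : A ⟶ P) (q : P ⟶ B) (j : B ⟶ P) (h : p ≫ i + q ≫ j = 𝟙 P)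
    [Module.Finite R A] [Module.Projective R A] [Module.Finite R B] [Module.Projective R B] :
    Module.Finite R P ∧ Module.Projective R P := by
  have hl : (i.hom.coprod j.hom) ∘ₗ (p.hom.prod q.hom) = LinearMap.id := by
    rw [LinearMap.coprod_comp_prod, ← ModuleCat.hom_comp, ← ModuleCat.hom_comp,
      ← ModuleCat.hom_add, h]
    rfl
  exact ⟨Module.Finite.of_surjective (i.hom.coprod j.hom) fun x => ⟨_, LinearMap.congr_fun hl x⟩,
    Module.Projective.of_split _ _ hl⟩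

lemma bfp_biprod {K L : DRing.Cx R} (hK : Bfp K) (hL : Bfp L) : Bfp (K ⊞ L) := by
  obtain ⟨⟨a, b, ha⟩, hp⟩ := hK
  obtain ⟨⟨c, d, hc⟩, hq⟩ := hL
  have hi : ∀ i, (biprod.fst : K ⊞ L ⟶ K).f i ≫ (biprod.inl : K ⟶ K ⊞ L).f i +
      (biprod.snd : K ⊞ L ⟶ L).f i ≫ (biprod.inr : L ⟶ K ⊞ L).f i = 𝟙 _ := fun i => by
    rw [← HomologicalComplex.comp_f, ← HomologicalComplex.comp_f,
      ← HomologicalComplex.add_f_apply, biprod.total]
    rfl
  refine ⟨⟨min a c, max b d, fun i h => ?_⟩, fun i => ?_⟩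
  · rw [IsZero.iff_id_eq_zero, ← hi i,
      (ha i (by omega)).eq_of_tgt ((biprod.fst : K ⊞ L ⟶ K).f i) 0,
      (hc i (by omega)).eq_of_tgt ((biprod.snd : K ⊞ L ⟶ L).f i) 0, zero_comp, zero_comp, add_zero]
  · have := (hp i).1; have := (hp i).2; have := (hq i).1; have := (hq i).2
    exact finite_projective_of_id _ _ _ _ (hi i)

lemma bfp_cone {K : DRing.Cx R} (hK : Bfp K) : Bfp (mappingCone (𝟙 K)) := by
  obtain ⟨⟨a, b, ha⟩, hp⟩ := hK
  have hi : ∀ i : ℤ, (mappingCone.fst (𝟙 K)).1.v i (i + 1) rfl ≫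
      (mappingCone.inl (𝟙 K)).v (i + 1) i (by omega) +
      (mappingCone.snd (𝟙 K)).v i i (add_zero i) ≫ (mappingCone.inr (𝟙 K)).f i = 𝟙 _ := fun i =>
    mappingCone.id_X (𝟙 K) i (i + 1) rfl
  refine ⟨⟨a - 1, b, fun i h => ?_⟩, fun i => ?_⟩
  · rw [IsZero.iff_id_eq_zero, ← hi i,
      (ha (i + 1) (by omega)).eq_of_tgt ((mappingCone.fst (𝟙 K)).1.v i (i + 1) rfl) 0,
      (ha i (by omega)).eq_of_tgt ((mappingCone.snd (𝟙 K)).v i i (add_zero i)) 0,
      zero_comp, zero_comp, add_zero]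
  · have := (hp (i + 1)).1; have := (hp (i + 1)).2; have := (hp i).1; have := (hp i).2
    exact finite_projective_of_id _ _ _ _ (hi i)

/-- Homotopy inverse maps from an isomorphism in the derived category. -/
lemma exists_homotopy_inverse {M N : DRing.Cx R} (hM : Bfp M) (hN : Bfp N)
    (α : DerivedCategory.Q.obj M ≅ DerivedCategory.Q.obj N) :
    ∃ (v : M ⟶ N) (w : N ⟶ M), Nonempty (Homotopy (v ≫ w) (𝟙 M)) ∧
      Nonempty (Homotopy (w ≫ v) (𝟙 N)) := by
  obtain ⟨⟨a, b, hb⟩, hp⟩ := hM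
  obtain ⟨⟨a', b', hb'⟩, hq⟩ := hN
  haveI := H9Misc.DRingProjAmp.isKProjective (R := R) (P := M) (b := b) (fun i => (hp i).2)
    (fun i hi => hb i (Or.inr hi))
  haveI := H9Misc.DRingProjAmp.isKProjective (R := R) (P := N) (b := b') (fun i => (hq i).2)
    (fun i hi => hb' i (Or.inr hi))
  let q := HomotopyCategory.quotient (ModuleCat.{u} R) (ComplexShape.up ℤ)
  let e := DerivedCategory.quotientCompQhIso (ModuleCat.{u} R)
  obtain ⟨v', hv⟩ := (CochainComplex.IsKProjective.Qh_map_bijective M (q.obj N)).2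
    (e.hom.app M ≫ α.hom ≫ e.inv.app N)
  obtain ⟨w', hw⟩ := (CochainComplex.IsKProjective.Qh_map_bijective N (q.obj M)).2
    (e.hom.app N ≫ α.inv ≫ e.inv.app M)
  obtain ⟨v, rfl⟩ := q.map_surjective v'
  obtain ⟨w, rfl⟩ := q.map_surjective w'
  have h1 : q.map (v ≫ w) = q.map (𝟙 M) :=
    (CochainComplex.IsKProjective.Qh_map_bijective M (q.obj M)).1 (by
      rw [Functor.map_comp, Functor.map_comp, hv, hw, CategoryTheory.Functor.map_id,
        CategoryTheory.Functor.map_id]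
      simp only [Category.assoc, Iso.inv_hom_id_app_assoc, Iso.hom_inv_id_assoc,
        Iso.hom_inv_id_app]
      rfl)
  have h2 : q.map (w ≫ v) = q.map (𝟙 N) :=
    (CochainComplex.IsKProjective.Qh_map_bijective N (q.obj N)).1 (by
      rw [Functor.map_comp, Functor.map_comp, hv, hw, CategoryTheory.Functor.map_id,
        CategoryTheory.Functor.map_id]
      simp only [Category.assoc, Iso.inv_hom_id_app_assoc, Iso.inv_hom_id_assoc,
        Iso.hom_inv_id_app]
      rfl)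
  exact ⟨v, w, ⟨HomotopyCategory.homotopyOfEq _ _ h1⟩, ⟨HomotopyCategory.homotopyOfEq _ _ h2⟩⟩

/-- Homotopy equivalent complexes become isomorphic after adding contractible complexes. -/
lemma exists_iso_biprod {M N : DRing.Cx R} (hM : Bfp M) (hN : Bfp N)
    (v : M ⟶ N) (w : N ⟶ M) (h₁ : Homotopy (v ≫ w) (𝟙 M)) (h₂ : Homotopy (w ≫ v) (𝟙 N)) :
    ∃ P Q : DRing.Cx R, Bfp P ∧ Bfp Q ∧ Nonempty (Homotopy (𝟙 P) 0) ∧
      Nonempty (Homotopy (𝟙 Q) 0) ∧ Nonempty (M ⊞ P ≅ N ⊞ Q) := by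
  let q := HomotopyCategory.quotient (ModuleCat.{u} R) (ComplexShape.up ℤ)
  let C : DRing.Cx R := mappingCone (𝟙 M)
  let hC : Homotopy (𝟙 C) 0 := mappingCone.homotopyToZeroOfId M
  obtain ⟨z, hz⟩ := HomComplex.Cochain.equivHomotopy _ _ h₁.symm
  let g : C ⟶ M := mappingCone.desc (𝟙 M) z (𝟙 M - v ≫ w) (by
    rw [Category.id_comp, HomComplex.Cochain.ofHom_sub, hz, add_sub_cancel_right])
  let i : M ⟶ N ⊞ C := biprod.lift v (mappingCone.inr (𝟙 M))
  let r : N ⊞ C ⟶ M := biprod.desc w g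
  have hir : i ≫ r = 𝟙 M := by
    simp only [i, r, g, biprod.lift_desc, mappingCone.inr_desc]
    abel
  have hC0 : q.map (𝟙 C) = 0 := by
    rw [HomotopyCategory.eq_of_homotopy _ _ hC]; exact q.map_zero _ _
  have hi : q.map i = q.map (v ≫ biprod.inl) := by
    have : i = v ≫ biprod.inl + (mappingCone.inr (𝟙 M) ≫ 𝟙 C) ≫ biprod.inr := by
      apply biprod.hom_ext <;> simp [i]
      exact (Category.comp_id _).symm
    rw [this, q.map_add, q.map_comp _ biprod.inr, q.map_comp (mappingCone.inr (𝟙 M)) (𝟙 C), hC0]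
    simp
  have hr : q.map r = q.map (biprod.fst ≫ w) := by
    have : r = biprod.fst ≫ w + (biprod.snd ≫ 𝟙 C) ≫ g := by
      apply biprod.hom_ext' <;> simp [r]
--      exact (Category.id_comp _).symm
    rw [this, q.map_add, q.map_comp _ g, q.map_comp biprod.snd (𝟙 C), hC0]
    simp
  have hri : q.map (r ≫ i) = q.map (𝟙 (N ⊞ C)) := by
    have h2' : q.map (w ≫ v) = q.map (𝟙 N) := HomotopyCategory.eq_of_homotopy _ _ h₂
    rw [q.map_comp, hr, hi, ← q.map_comp, Category.assoc, ← Category.assoc w,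
      q.map_comp, q.map_comp (w ≫ v), h2']
    rw [← biprod.total (X := N) (Y := C), q.map_add,
      ← Category.comp_id (biprod.snd : N ⊞ C ⟶ C), q.map_comp (biprod.snd ≫ 𝟙 C),
      q.map_comp biprod.snd (𝟙 C), hC0]
    simp
  let S : ShortComplex (DRing.Cx R) := ShortComplex.mk (kernel.ι r) r (kernel.condition r)
  let sp : S.Splitting := ShortComplex.Splitting.ofExactOfSection S
    (ShortComplex.exact_of_f_is_kernel S (kernelIsKernel r)) i hir (inferInstanceAs (Mono (kernel.ι r)))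
  have hQ0 : q.map (𝟙 (kernel r)) = 0 := by
    have e₁ : kernel.ι r ≫ sp.r = 𝟙 (kernel r) := sp.f_r
    rw [← e₁, q.map_comp]
    rw [← Category.comp_id (kernel.ι r), q.map_comp, ← hri, ← q.map_comp, kernel.condition_assoc,
      zero_comp, q.map_zero, zero_comp]
  have hfp : Bfp (kernel r) :=
    bfp_of_retract (kernel.ι r) sp.r sp.f_r (bfp_biprod hN (bfp_cone hM))
  refine ⟨kernel r, C, hfp, bfp_cone hM, ⟨HomotopyCategory.homotopyOfEq _ _ ?_⟩, ⟨hC⟩,
    ⟨biprod.braiding M (kernel r) ≪≫ (sp.isoBinaryBiproduct).symm⟩⟩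
  exact hQ0.trans (q.map_zero _ _).symm

lemma range_finite_projective {K : DRing.Cx R} (hK : Bfp K) (h : Homotopy (𝟙 K) 0) (i : ℤ) :
    (Module.Finite R (LinearMap.range (K.d i (i + 1)).hom) ∧
      Module.Projective R (LinearMap.range (K.d i (i + 1)).hom)) ∧
    ∃ (s : LinearMap.range (K.d i (i + 1)).hom →ₗ[R] K.X i)
      (t : K.X (i + 1) →ₗ[R] LinearMap.range (K.d i (i + 1)).hom),
      (K.d i (i + 1)).hom.rangeRestrict ∘ₗ s = LinearMap.id ∧
      t ∘ₗ (LinearMap.range (K.d i (i + 1)).hom).subtype = LinearMap.id := by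
  have hd : K.d i (i + 1) ≫ h.hom (i + 1) i ≫ K.d i (i + 1) = K.d i (i + 1) := by
    have := congrArg (fun φ => K.d i (i + 1) ≫ φ) (h.comm (i + 1))
    simp only [HomologicalComplex.id_f, Category.comp_id, HomologicalComplex.zero_f, add_zero,
      prevD_eq _ (show (ComplexShape.up ℤ).Rel i (i + 1) from rfl),
      dNext_eq _ (show (ComplexShape.up ℤ).Rel (i + 1) (i + 1 + 1) from rfl),
      Preadditive.comp_add, HomologicalComplex.d_comp_d_assoc, zero_comp, zero_add] at this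
    exact this.symm
  let d := (K.d i (i + 1)).hom
  let k := (h.hom (i + 1) i).hom
  have hd' : ∀ x, d (k (d x)) = d x := fun x =>
    LinearMap.congr_fun (congrArg ModuleCat.Hom.hom hd) x
  let t : K.X (i + 1) →ₗ[R] LinearMap.range d := d.rangeRestrict ∘ₗ k
  have ht : t ∘ₗ (LinearMap.range d).subtype = LinearMap.id := by
    ext ⟨y, x, rfl⟩
    exact hd' x
  have hs : d.rangeRestrict ∘ₗ (k ∘ₗ (LinearMap.range d).subtype) = LinearMap.id := ht
  obtain ⟨hf, hp⟩ := hK.2 (i + 1)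
  exact ⟨⟨Module.Finite.of_surjective t fun x => ⟨_, LinearMap.congr_fun ht x⟩,
    Module.Projective.of_split _ _ ht⟩, _, t, hs, ht⟩

end Groth.Agent.H1DAway
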